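import Mathlib
import Cfsg.Agent.Lib.Helper58.UPair.Defs

/-!
# Project UPair (S5984), package [ZDICH]

In a field with `q ^ 2` elements, `q` odd, an element `z` of norm one (`z ^ (q + 1) = 1`) is the
square of an element of norm `1` or of norm `-1`.
-/

set_option autoImplicit false

namespace Cfsg.Agent.Lib.Helper62.UPair

universe u

/-- **[ZDICH]** a norm-1 element is `l²` with `l` of norm 1 or `μ²` with `μ` of norm `-1`. -/
theorem pkgZDich : Cfsg.Agent.Lib.Helper58.UPair.PkgZDich.{u} := by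
  intro F _ _ q z hF hq hz
  have hz0 : z ≠ 0 := by
    rintro rfl
    rw [zero_pow (Nat.succ_ne_zero q)] at hz
    exact zero_ne_one hz
  have hodd : Odd (Fintype.card F) := by rw [hF]; exact hq.pow
  have hchar : ringChar F ≠ 2 := by
    intro h2
    have := FiniteField.even_card_of_char_two h2
    rcases hodd with ⟨k, hk⟩
    omega
  obtain ⟨t, ht⟩ := hq
  have hcard : Fintype.card F / 2 = (q + 1) * t := by
    rw [hF, ht]
    have : (2 * t + 1) ^ 2 = 2 * ((2 * t + 1 + 1) * t) + 1 := by ring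
    rw [this]
    omega
  have hsq : IsSquare z := by
    rw [FiniteField.isSquare_iff hchar hz0, hcard, pow_mul, hz, one_pow]
  obtain ⟨μ, hμ⟩ := hsq
  have hμ2 : μ ^ 2 = z := by rw [hμ, sq]
  have h1 : (μ ^ (q + 1)) ^ 2 = 1 := by
    rw [← pow_mul, mul_comm, pow_mul, hμ2, hz]
  have h2 : (μ ^ (q + 1) - 1) * (μ ^ (q + 1) + 1) = 0 := by
    have : (μ ^ (q + 1) - 1) * (μ ^ (q + 1) + 1) = (μ ^ (q + 1)) ^ 2 - 1 := by ring
    rw [this, h1, sub_self]
  rcases mul_eq_zero.mp h2 with h3 | h3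
  · exact Or.inl ⟨μ, hμ2, sub_eq_zero.mp h3⟩
  · exact Or.inr ⟨μ, hμ2, eq_neg_of_add_eq_zero_left h3⟩

end Cfsg.Agent.Lib.Helper62.UPair
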